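import Mathlib.RingTheory.Nullstellensatz
import Mathlib.RingTheory.KrullDimension.Polynomial
import Mathlib.RingTheory.Ideal.KrullsHeightTheorem
import Mathlib.RingTheory.KrullDimension.Field
import Mathlib.RingTheory.Polynomial.Basic
import Mathlib.RingTheory.Polynomial.UniqueFactorization
import Mathlib.FieldTheory.IsAlgClosed.Basic
import Mathlib.Algebra.MvPolynomial.Funext

/-! Height bounds for the image of a polynomial map. -/

set_option autoImplicit false
set_option linter.style.haveILetI false

universe u v w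

open MvPolynomial

noncomputable section

namespace Groth.L05.Discrim

variable {k : Type u} [Field k] {σ : Type v}

/-- Translation by a point. -/
def shift (c : σ → k) : MvPolynomial σ k ≃ₐ[k] MvPolynomial σ k :=
  AlgEquiv.ofAlgHom (aeval fun i => MvPolynomial.X i + C (c i)) (aeval fun i => MvPolynomial.X i - C (c i))
    (by ext1 i; simp) (by ext1 i; simp)

theorem ker_eval_eq_comap_shift (c : σ → k) :
    RingHom.ker (eval c) = (RingHom.ker (eval (0 : σ → k))).map (shift c).symm.toRingEquiv := by
  rw [← Ideal.comap_symm (f := (shift c).symm.toRingEquiv)]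
  ext p
  have e : eval c = (eval (0 : σ → k)).comp (shift c).toAlgHom.toRingHom := by
    refine MvPolynomial.ringHom_ext (fun a => ?_) (fun i => ?_) <;> simp [shift]
  rw [RingHom.mem_ker, Ideal.mem_comap, RingHom.mem_ker, e]
  rfl

variable [IsAlgClosed k] [Finite σ]

theorem height_ker_eval (c : σ → k) : (RingHom.ker (eval c)).height = Nat.card σ := by
  have hker : ∀ c' : σ → k, (RingHom.ker (eval c')).height = (RingHom.ker (eval (0 : σ → k))).height :=
    fun c' => by rw [ker_eval_eq_comap_shift c', RingEquiv.height_map]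
  have hdim : ringKrullDim (MvPolynomial σ k) = (Nat.card σ : WithBot ℕ∞) := by
    rw [MvPolynomial.ringKrullDim_of_isNoetherianRing, ringKrullDim_eq_zero_of_field, zero_add]
  haveI := RingHom.ker_isMaximal_of_surjective (eval c) fun a => ⟨C a, eval_C a⟩
  refine le_antisymm ?_ ?_
  · have h := Ideal.height_le_ringKrullDim_of_ne_top (I := RingHom.ker (eval c)) Ideal.IsPrime.ne_top'
    rw [hdim] at h
    exact WithBot.coe_le_coe.1 h
  · have h : ringKrullDim (MvPolynomial σ k) ≤ ((RingHom.ker (eval c)).height : WithBot ℕ∞) := by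
      refine (ringKrullDim_le_iff_isMaximal_height_le _).mpr fun M hM => ?_
      obtain ⟨c', rfl⟩ := MvPolynomial.isMaximal_iff_eq_vanishingIdeal_singleton.1 hM
      have e : MvPolynomial.vanishingIdeal k ({c'} : Set (σ → k)) = RingHom.ker (eval c') := by
        ext p
        rw [mem_vanishingIdeal_iff, RingHom.mem_ker]
        exact ⟨fun h => (aeval_eq_eval c') ▸ h c' rfl, fun h x hx => by rw [hx, aeval_eq_eval]; exact h⟩
      rw [e, hker c', ← hker c]
    rw [hdim] at h
    exact WithBot.coe_le_coe.1 h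

omit [IsAlgClosed k] [Finite σ] in
/-- Heights add up along a quotient. -/
theorem height_add_le {A : Type u} [CommRing A] [IsNoetherianRing A] (P : Ideal A) [P.IsPrime]
    (q : Ideal (A ⧸ P)) [q.IsPrime] : P.height + q.height ≤ (q.comap (Ideal.Quotient.mk P)).height := by
  obtain ⟨lq, hlq, hlenq⟩ := q.exists_ltSeries_length_eq_height
  let l' : LTSeries (PrimeSpectrum A) := lq.map (PrimeSpectrum.comap (Ideal.Quotient.mk P))
    (RingHom.strictMono_comap_of_surjective Ideal.Quotient.mk_surjective)
  obtain ⟨lp, hlp, hlenp⟩ := l'.head.asIdeal.exists_ltSeries_length_eq_height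
  have hhead : lp.last = l'.head := hlp
  have hP : P ≤ l'.head.asIdeal := fun a ha => by
    show Ideal.Quotient.mk P a ∈ lq.head.asIdeal
    rw [Ideal.Quotient.eq_zero_iff_mem.2 ha]
    exact zero_mem _
  refine le_trans (add_le_add_left (Ideal.height_mono hP) _) ?_
  rw [← hlenp, ← hlenq, ← Nat.cast_add, show lp.length + lq.length = (lp.smash l' hhead).length from rfl,
    (⟨q.comap (Ideal.Quotient.mk P), inferInstance⟩ : PrimeSpectrum A).height_eq_orderHeight]
  refine Order.length_le_height (le_of_eq ?_)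
  refine PrimeSpectrum.ext ?_
  simp [l', hlq]

omit [Finite σ] in
/-- A polynomial map with an isolated point in a fibre has an image of at least the dimension of the source. -/
theorem height_ker_add_le {N : ℕ} [Finite σ] (ψ : MvPolynomial (Fin N) k →ₐ[k] MvPolynomial σ k) (c₀ : σ → k)
    (hfib : ∀ c : σ → k, (∀ j, eval c (ψ (MvPolynomial.X j)) = eval c₀ (ψ (MvPolynomial.X j))) → c = c₀) :
    (RingHom.ker ψ.toRingHom).height + Nat.card σ ≤ N := by
  set P := RingHom.ker ψ.toRingHom
  haveI : P.IsPrime := RingHom.ker_isPrime _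
  letI : Algebra (MvPolynomial (Fin N) k ⧸ P) (MvPolynomial σ k) :=
    (Ideal.Quotient.lift P ψ.toRingHom fun a ha => ha).toAlgebra
  set Q := RingHom.ker (eval c₀)
  haveI : Q.IsMaximal := RingHom.ker_isMaximal_of_surjective _ fun a => ⟨C a, eval_C a⟩
  let p := Q.under (MvPolynomial (Fin N) k ⧸ P)
  haveI : Q.LiesOver p := ⟨rfl⟩
  set I := p.map (algebraMap (MvPolynomial (Fin N) k ⧸ P) (MvPolynomial σ k))
  have hIQ : I ≤ Q := Ideal.map_le_iff_le_comap.2 le_rfl
  have hrad : ∀ J : Ideal (MvPolynomial σ k), J.IsPrime → I ≤ J → Q ≤ J := by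
    intro J hJ hIJ a ha
    refine (hJ.radical_le_iff.2 hIJ) ?_
    rw [← vanishingIdeal_zeroLocus_eq_radical (k := k) (K := k) I, mem_vanishingIdeal_iff]
    intro c hc
    have hc0 : c = c₀ := hfib c fun j => by
      have hmem : Ideal.Quotient.mk P (MvPolynomial.X j - C (eval c₀ (ψ (MvPolynomial.X j)))) ∈ p := by
        show eval c₀ (ψ _) = 0
        simp
      have h := mem_zeroLocus_iff.1 hc _ (Ideal.mem_map_of_mem _ hmem)
      rw [aeval_eq_eval] at h
      have h' : eval c (ψ (MvPolynomial.X j - C (eval c₀ (ψ (MvPolynomial.X j))))) = 0 := h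
      simpa [sub_eq_zero] using h'
    rw [hc0, aeval_eq_eval]
    exact ha
  haveI : (Q.map (Ideal.Quotient.mk I)).IsPrime :=
    Ideal.map_isPrime_of_surjective Ideal.Quotient.mk_surjective (by rw [Ideal.mk_ker]; exact hIQ)
  have h0 : (Q.map (Ideal.Quotient.mk I)).height = 0 := by
    rw [Ideal.height_eq_zero_iff]
    refine ⟨⟨inferInstance, bot_le⟩, fun J hJ _ => ?_⟩
    haveI := hJ.1
    rw [Ideal.map_le_iff_le_comap]
    refine hrad _ inferInstance fun a ha => ?_
    rw [Ideal.mem_comap, Ideal.Quotient.eq_zero_iff_mem.2 ha]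
    exact zero_mem _
  have h1 := Ideal.height_le_height_add_of_liesOver p Q
  rw [h0, add_zero, height_ker_eval] at h1
  refine le_trans (add_le_add_right h1 _) ((height_add_le P p).trans ?_)
  have h2 := Ideal.height_le_ringKrullDim_of_ne_top (I := p.comap (Ideal.Quotient.mk P)) Ideal.IsPrime.ne_top'
  rw [MvPolynomial.ringKrullDim_of_isNoetherianRing, ringKrullDim_eq_zero_of_field, zero_add, Nat.card_fin] at h2
  exact WithBot.coe_le_coe.1 h2

omit [IsAlgClosed k] [Finite σ] in
/-- A prime of height at most one in a polynomial ring is principal. -/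
theorem exists_prime_eq_span {N : ℕ} (P : Ideal (MvPolynomial (Fin N) k)) [P.IsPrime] (hne : P ≠ ⊥)
    (h : P.height ≤ 1) : ∃ p, Prime p ∧ P = Ideal.span {p} := by
  obtain ⟨p, hpP, hp⟩ := Ideal.IsPrime.exists_mem_prime_of_ne_bot ‹P.IsPrime› hne
  refine ⟨p, hp, ?_⟩
  haveI : (Ideal.span {p}).IsPrime := (Ideal.span_singleton_prime hp.ne_zero).2 hp
  have hle : Ideal.span {p} ≤ P := Ideal.span_le.2 (Set.singleton_subset_iff.2 hpP)
  refine (hle.lt_or_eq.resolve_left fun hlt => ?_).symm
  have h1 : (Ideal.span {p}).height < P.height := Ideal.height_strict_mono_of_isPrime hlt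
  have h2 : (⊥ : Ideal (MvPolynomial (Fin N) k)).height < (Ideal.span {p}).height :=
    Ideal.height_strict_mono_of_isPrime (bot_lt_iff_ne_bot.2 fun h => hp.ne_zero
      (Ideal.span_singleton_eq_bot.1 h))
  rw [Ideal.height_bot] at h2
  have h3 : (1 : ℕ∞) ≤ (Ideal.span {p}).height := Order.one_le_iff_pos.2 h2
  exact absurd (lt_of_le_of_lt h3 h1) (not_lt.2 h)

end Groth.L05.Discrim
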