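import Groth.Agent.L05.DualVar.Elim
import Groth.Agent.L05.HypBertini.Ring
import Groth.Agent.L14.Fano.SmoothContaining
import Mathlib.RingTheory.MvPolynomial.EulerIdentity
import Mathlib.Algebra.MvPolynomial.PDeriv

/-! Singular forms. -/

set_option autoImplicit false
set_option linter.style.haveILetI false

universe u v

open MvPolynomial

noncomputable section

namespace Groth.L05.Discrim

open Groth.L14.Fano (Mon)

variable {k : Type u} [Field k] {n d : ℕ}

/-- A form with a singular zero. -/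
def Sing (G : LefPen.Form n k d) : Prop :=
  ∃ v : Fin (n + 1) → k, v ≠ 0 ∧ eval v G.1 = 0 ∧ ∀ i : Fin (n + 1), eval v (pderiv i G.1) = 0

theorem isHomogeneous_form (G : LefPen.Form n k d) : G.1.IsHomogeneous d :=
  (mem_homogeneousSubmodule d _).1 G.2

theorem pderiv_aeval {σ : Type v} {τ : Type*} [Fintype σ] (f : σ → MvPolynomial τ k) (j : τ)
    (p : MvPolynomial σ k) :
    pderiv j (aeval f p) = ∑ i, aeval f (pderiv i p) * pderiv j (f i) := by
  classical
  induction p using MvPolynomial.induction_on with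
  | C t => simp
  | add p q hp hq => simp only [map_add, hp, hq, add_mul, Finset.sum_add_distrib]
  | mul_X p l hp =>
    simp only [map_mul, aeval_X, pderiv_mul, hp, map_add, add_mul, Finset.sum_add_distrib, Finset.sum_mul]
    congr 1
    · exact Finset.sum_congr rfl fun i _ => by ring
    · rw [Finset.sum_eq_single l]
      · simp
      · intro i _ hi
        rw [pderiv_X_of_ne (Ne.symm hi), map_zero, mul_zero, zero_mul]
      · simp

/-- Linear substitution. -/
def lin (ℓ : Fin (n + 1) → Fin (n + 1) → k) (i : Fin (n + 1)) : MvPolynomial (Fin (n + 1)) k :=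
  ∑ l, C (ℓ i l) * MvPolynomial.X l

theorem isHomogeneous_lin (ℓ : Fin (n + 1) → Fin (n + 1) → k) (i : Fin (n + 1)) : (lin ℓ i).IsHomogeneous 1 :=
  IsHomogeneous.sum _ _ _ fun l _ => isHomogeneous_C_mul_X _ _

/-- The substituted form. -/
def sub (ℓ : Fin (n + 1) → Fin (n + 1) → k) : LefPen.Form n k d →ₗ[k] LefPen.Form n k d where
  toFun G := ⟨aeval (lin ℓ) G.1, (mem_homogeneousSubmodule d _).2 (by
    have h := (isHomogeneous_form G).aeval (lin ℓ) (isHomogeneous_lin ℓ)
    rwa [one_mul] at h)⟩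
  map_add' G H := Subtype.ext (by simp)
  map_smul' t G := Subtype.ext (by simp)

theorem sub_val (ℓ : Fin (n + 1) → Fin (n + 1) → k) (G : LefPen.Form n k d) :
    (sub ℓ G).1 = aeval (lin ℓ) G.1 := rfl

theorem eval_lin (ℓ : Fin (n + 1) → Fin (n + 1) → k) (v : Fin (n + 1) → k) (i : Fin (n + 1)) :
    eval v (lin ℓ i) = ∑ l, ℓ i l * v l := by
  simp [lin]

theorem eval_aeval_lin (ℓ : Fin (n + 1) → Fin (n + 1) → k) (v : Fin (n + 1) → k)
    (p : MvPolynomial (Fin (n + 1)) k) :
    eval v (aeval (lin ℓ) p) = eval (fun i => ∑ l, ℓ i l * v l) p := by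
  rw [← aeval_eq_eval, ← AlgHom.comp_apply, comp_aeval, aeval_eq_eval]
  simp [eval_lin]

/-- A singular zero transports along a linear substitution. -/
theorem sing_zero_sub (ℓ : Fin (n + 1) → Fin (n + 1) → k) (G : LefPen.Form n k d) {v w : Fin (n + 1) → k}
    (hw : ∀ i, ∑ l, ℓ i l * v l = w i) (h0 : eval w G.1 = 0) (hi : ∀ i, eval w (pderiv i G.1) = 0) :
    eval v (sub ℓ G).1 = 0 ∧ ∀ i, eval v (pderiv i (sub ℓ G).1) = 0 := by
  have hw' : (fun i => ∑ l, ℓ i l * v l) = w := funext hw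
  refine ⟨?_, fun j => ?_⟩
  · rw [sub_val, eval_aeval_lin, hw', h0]
  · rw [sub_val, pderiv_aeval, map_sum]
    refine Finset.sum_eq_zero fun i _ => ?_
    rw [map_mul, eval_aeval_lin, hw', hi, zero_mul]

theorem sub_sub_eq_self (ℓ ℓ' : Fin (n + 1) → Fin (n + 1) → k)
    (h : ∀ i, aeval (lin ℓ) (lin ℓ' i) = MvPolynomial.X i) (G : LefPen.Form n k d) : sub ℓ (sub ℓ' G) = G := by
  refine Subtype.ext ?_
  rw [sub_val, sub_val, ← AlgHom.comp_apply, comp_aeval,
    show (fun i => aeval (lin ℓ) (lin ℓ' i)) = MvPolynomial.X from funext h, aeval_X_left, AlgHom.id_apply]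

theorem eval_smul_hom {σ : Type v} {F : MvPolynomial σ k} {e : ℕ} (hF : F.IsHomogeneous e) (t : k) (v : σ → k) :
    eval (t • v) F = t ^ e * eval v F := by
  rw [eval_eq, eval_eq, Finset.mul_sum]
  refine Finset.sum_congr rfl fun μ hμ => ?_
  simp only [Pi.smul_apply, smul_eq_mul, mul_pow, Finset.prod_mul_distrib]
  rw [Finset.prod_pow_eq_pow_sum, ← Finsupp.degree_apply,
    show μ.degree = e by by_contra h; exact mem_support_iff.1 hμ (hF.coeff_eq_zero h)]
  ring

/-- The coordinates of a substituted form depend polynomially on the substitution. -/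
theorem exists_coord_poly {σ : Type v} (ℓ : Fin (n + 1) → Fin (n + 1) → MvPolynomial σ k) (G : LefPen.Form n k d)
    (φ : Module.Dual k (LefPen.Form n k d)) :
    ∃ Q : MvPolynomial σ k, ∀ c : σ → k, eval c Q = φ (sub (fun i l => eval c (ℓ i l)) G) := by
  classical
  let mf : Mon (n + 1) d → LefPen.Form n k d := fun μ =>
    ⟨monomial μ.1 1, (mem_homogeneousSubmodule d _).2 (isHomogeneous_monomial 1 μ.2)⟩
  let R : MvPolynomial (Fin (n + 1)) (MvPolynomial σ k) :=
    eval₂ (C.comp C) (fun i => ∑ l, C (ℓ i l) * MvPolynomial.X l) G.1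
  refine ⟨∑ μ : Mon (n + 1) d, C (φ (mf μ)) * coeff μ.1 R, fun c => ?_⟩
  have hR : MvPolynomial.map (eval c) R = (sub (fun i l => eval c (ℓ i l)) G).1 := by
    rw [sub_val, aeval_def, show R = eval₂Hom (C.comp C) _ G.1 from rfl, map_eval₂Hom]
    refine eval₂Hom_congr (RingHom.ext fun a => by simp [MvPolynomial.algebraMap_eq]) (funext fun i => ?_) rfl
    simp [lin]
  set H := sub (fun i l => eval c (ℓ i l)) G
  have hH : H = ∑ μ : Mon (n + 1) d, coeff μ.1 H.1 • mf μ := Subtype.ext <| by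
    rw [AddSubmonoidClass.coe_finset_sum]
    conv_lhs => rw [Groth.L05.HypBertini.form_eq_sum H]
    exact Finset.sum_congr rfl fun μ _ => by simp [mf, smul_monomial]
  rw [map_sum]
  conv_rhs => rw [hH, map_sum]
  refine Finset.sum_congr rfl fun μ _ => ?_
  rw [map_mul, eval_C, map_smul, smul_eq_mul, ← hR, coeff_map, mul_comm]

variable [IsAlgClosed k]

/-- Being nonsingular is open. -/
theorem exists_open_nonsing (G₀ : LefPen.Form n k d) (h : ¬ Sing G₀) :
    ∃ f : LefPen.Form n k d → k, LefPen.IsPolyFun k f ∧ f G₀ ≠ 0 ∧ ∀ G, f G ≠ 0 → ¬ Sing G := by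
  classical
  let δ : Option (Fin (n + 1)) → ℕ := fun j => j.elim d fun _ => d - 1
  let P : Option (Fin (n + 1)) → LefPen.Form n k d → MvPolynomial (Fin (n + 1)) k := fun j G =>
    j.elim G.1 fun i => pderiv i G.1
  have hlin : ∀ (L : MvPolynomial (Fin (n + 1)) k →ₗ[k] MvPolynomial (Fin (n + 1)) k) μ,
      LefPen.IsPolyFun k fun H : LefPen.Form n k d => coeff μ (L H.1) := fun L μ =>
    Groth.L05.DualVar.isPolyFun_linear ((lcoeff k μ).comp (L.comp (Submodule.subtype _)))
  obtain ⟨f, hf, hf0, hf'⟩ := Groth.L05.DualVar.isOpen_noCommonZero δ P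
    (fun j G => by
      cases j with
      | none => exact isHomogeneous_form G
      | some i => exact (isHomogeneous_form G).pderiv)
    (fun j μ => by
      cases j with
      | none => exact hlin LinearMap.id μ
      | some i => exact hlin (pderiv i).toLinearMap μ)
    G₀ (fun v hv => by_contra fun hv0 => h ⟨v, hv0, hv none, fun i => hv (some i)⟩)
  refine ⟨f, hf, hf0, fun G hG hs => ?_⟩
  obtain ⟨v, hv0, hv, hvi⟩ := hs
  exact hv0 (hf' G hG v fun j => by cases j with | none => exact hv | some i => exact hvi i)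

/-- A form all whose singular zeros lie on one line. -/
theorem exists_cone (hn : 1 ≤ n) (hd : 2 ≤ d) :
    ∃ G : LefPen.Form n k d, eval (Pi.single 0 1 : Fin (n + 1) → k) G.1 = 0 ∧
      (∀ i, eval (Pi.single 0 1 : Fin (n + 1) → k) (pderiv i G.1) = 0) ∧
      ∀ v, eval v G.1 = 0 → (∀ i, eval v (pderiv i G.1) = 0) → ∀ i, i ≠ 0 → v i = 0 := by
  classical
  obtain ⟨n', rfl⟩ : ∃ n', n = n' + 1 := ⟨n - 1, by omega⟩
  obtain ⟨f, -, ⟨⟨h, hh⟩, hfh⟩, hf⟩ := Groth.L14.Fano.Sm.generic_smooth (k := k) (n := n') hd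
    (⊥ : Submodule k (Fin (n' + 1) → k)) (by rw [finrank_bot]; omega) ⊤
    (fun G => iff_of_true trivial fun u hu => by
      rw [(Submodule.mem_bot k).1 hu, ← zero_smul k (0 : Fin (n' + 1) → k), eval_smul_hom (isHomogeneous_form G),
        zero_pow (by omega), zero_mul])
  have hsm := hf _ hfh
  let G : LefPen.Form (n' + 1) k d := ⟨rename Fin.succ h.1,
    (mem_homogeneousSubmodule d _).2 ((isHomogeneous_form h).rename_isHomogeneous)⟩
  have hd0 : pderiv (0 : Fin (n' + 1 + 1)) G.1 = 0 := by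
    refine pderiv_eq_zero_of_notMem_vars fun hm => ?_
    obtain ⟨j, -, hj⟩ := Finset.mem_image.1 (vars_rename Fin.succ h.1 hm)
    exact Fin.succ_ne_zero j hj
  have hds : ∀ j : Fin (n' + 1), pderiv j.succ G.1 = rename Fin.succ (pderiv j h.1) := fun j =>
    pderiv_rename (Fin.succ_injective _) j h.1
  have hcomp : ((Pi.single 0 1 : Fin (n' + 1 + 1) → k) ∘ Fin.succ) = 0 := funext fun j =>
    Pi.single_eq_of_ne (Fin.succ_ne_zero j) _
  refine ⟨G, ?_, fun i => ?_, fun v h0 hi i hine => ?_⟩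
  · rw [eval_rename, hcomp, ← zero_smul k (0 : Fin (n' + 1) → k), eval_smul_hom (isHomogeneous_form h),
      zero_pow (by omega), zero_mul]
  · induction i using Fin.cases with
    | zero => rw [hd0, map_zero]
    | succ j =>
      rw [hds, eval_rename, hcomp, ← zero_smul k (0 : Fin (n' + 1) → k),
        eval_smul_hom (isHomogeneous_form h).pderiv, zero_pow (by omega), zero_mul]
  · by_contra hvi
    obtain ⟨j, rfl⟩ := Fin.exists_succ_eq.2 hine
    obtain ⟨j', hj'⟩ := hsm (v ∘ Fin.succ) (fun e => hvi (congrFun e j)) (by rw [← eval_rename]; exact h0)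
    exact hj' (by rw [← eval_rename, ← hds]; exact hi j'.succ)

end Groth.L05.Discrim
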