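import Groth.Agent.L05.Discrim.Height
import Groth.Agent.L05.Discrim.Sing
import Groth.Agent.L05.Pencil.Proj
import Mathlib.LinearAlgebra.Dimension.Free
import Mathlib.LinearAlgebra.Basis.VectorSpace
import Mathlib.LinearAlgebra.FiniteDimensional.Lemmas

/-! The discriminant of forms of a fixed degree. -/

set_option autoImplicit false
set_option linter.style.haveILetI false

universe u

open MvPolynomial

noncomputable section

namespace Groth.L05.Discrim

open Groth.L05.Pencil.Proj (van exists_poly isPolyFun_eval_lin)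

variable {k : Type u} [Field k] {n d : ℕ}

/-- The coefficient matrix of `X ↦ X + X₀ w`. -/
def shearA {R : Type*} [CommRing R] (w : Fin n → R) : Fin (n + 1) → Fin (n + 1) → R :=
  Fin.cases (Pi.single 0 1) fun i => Pi.single i.succ 1 + Pi.single 0 (w i)

theorem map_shearA {R S : Type*} [CommRing R] [CommRing S] (f : R →+* S) (w : Fin n → R) :
    (fun i l => f (shearA w i l)) = shearA fun i => f (w i) := by
  funext i l
  induction i using Fin.cases with
  | zero => by_cases h : l = 0 <;> simp [shearA, Pi.single_apply, h]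
  | succ j => by_cases h : l = 0 <;> by_cases h' : l = j.succ <;> simp [shearA, Pi.single_apply, h, h']

theorem shearA_apply (w : Fin n → k) (v : Fin (n + 1) → k) (i : Fin (n + 1)) :
    ∑ l, shearA w i l * v l = Fin.cases (v 0) (fun j => v j.succ + w j * v 0) i := by
  induction i using Fin.cases with
  | zero => simp [shearA, Pi.single_apply, Finset.sum_ite_eq']
  | succ j => simp [shearA, Pi.single_apply, Finset.sum_ite_eq', add_mul, Finset.sum_add_distrib]

theorem lin_shearA_inverse (w : Fin n → k) (i : Fin (n + 1)) :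
    aeval (lin (shearA fun j => -w j)) (lin (shearA w) i) = MvPolynomial.X i := by
  induction i using Fin.cases with
  | zero => simp [lin, shearA, Pi.single_apply, apply_ite C, ite_mul, Finset.sum_ite_eq']
  | succ j =>
    simp [lin, shearA, Pi.single_apply, apply_ite C, add_mul, ite_mul, Finset.sum_add_distrib,
      Finset.sum_ite_eq']

variable [IsAlgClosed k]

/-- The discriminant. -/
theorem exists_discriminant (hn : 1 ≤ n) (hd : 2 ≤ d) :
    ∃ Δ : ↥(Algebra.adjoin k (Set.range (fun l : Module.Dual k (LefPen.Form n k d) => (l : LefPen.Form n k d → k)))),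
      Irreducible Δ ∧ ∀ G : LefPen.Form n k d, Sing G ↔ Δ.1 G = 0 := by
  classical
  haveI : Infinite k := IsAlgClosed.instInfinite
  haveI : Module.Finite k (LefPen.Form n k d) := by
    refine (Module.Finite.iff_fg (N := CohB1.polyGrading n k d)).2 ?_
    exact Submodule.FG.of_le (Module.Finite.iff_fg.1 (inferInstance : Module.Finite k (MvPolynomial.restrictTotalDegree (Fin (n + 1)) k d))) fun p hp =>
      (mem_restrictTotalDegree _ _ p).2 ((mem_homogeneousSubmodule d p).1 hp).totalDegree_le
  set N := Module.finrank k (LefPen.Form n k d)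
  let bs := Module.finBasis k (LefPen.Form n k d)
  -- forms singular at the first coordinate point
  let e₀ : Fin (n + 1) → k := Pi.single 0 1
  let J : LefPen.Form n k d →ₗ[k] (Fin (n + 1) → k) :=
    LinearMap.pi (Fin.cases ((aeval e₀).toLinearMap.comp (Submodule.subtype _))
      fun i => (aeval e₀).toLinearMap.comp ((pderiv i.succ).toLinearMap.comp (Submodule.subtype _)))
  have hJ : ∀ G, G ∈ LinearMap.ker J ↔ eval e₀ G.1 = 0 ∧ ∀ i, eval e₀ (pderiv i G.1) = 0 := by
    intro G
    rw [LinearMap.mem_ker, _root_.funext_iff]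
    constructor
    · intro h
      have h0 : eval e₀ G.1 = 0 := by simpa [J, aeval_eq_eval] using h 0
      have hs : ∀ i : Fin n, eval e₀ (pderiv i.succ G.1) = 0 := fun i => by simpa [J, aeval_eq_eval] using h i.succ
      refine ⟨h0, fun i => ?_⟩
      induction i using Fin.cases with
      | zero =>
        have he := congrArg (eval e₀) (isHomogeneous_form G).sum_X_mul_pderiv
        rw [map_sum, map_nsmul, h0, smul_zero, Fin.sum_univ_succ, Finset.sum_eq_zero fun i _ => by
          rw [map_mul, hs, mul_zero]] at he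
        simpa [e₀] using he
      | succ j => exact hs j
    · rintro ⟨h0, hi⟩ i
      induction i using Fin.cases with
      | zero => simpa [J, aeval_eq_eval] using h0
      | succ j => simpa [J, aeval_eq_eval] using hi j.succ
  have hM : N ≤ Module.finrank k (LinearMap.ker J) + (n + 1) := by
    show Module.finrank k (LefPen.Form n k d) ≤ _
    rw [← J.finrank_range_add_finrank_ker, add_comm]
    exact Nat.add_le_add_left ((Submodule.finrank_le _).trans_eq (Module.finrank_fin_fun k)) _
  set M := Module.finrank k (LinearMap.ker J)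
  haveI : Module.Free k (LinearMap.ker J) :=
    @Module.Free.of_divisionRing k (LinearMap.ker J) _ (Submodule.addCommGroup _) (LinearMap.ker J).module
  let bL := Module.finBasis k (LinearMap.ker J)
  -- the map
  let u : Fin n → MvPolynomial (Fin n ⊕ Fin M) k := fun i => MvPolynomial.X (Sum.inl i)
  choose q hq using fun (l : Fin M) (j : Fin N) => exists_coord_poly (shearA fun i => -u i) (bL l).1 (bs.coord j)
  let ψ : MvPolynomial (Fin N) k →ₐ[k] MvPolynomial (Fin n ⊕ Fin M) k :=
    aeval fun j => ∑ l, MvPolynomial.X (Sum.inr l) * q l j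
  let Φ : (Fin n ⊕ Fin M → k) → LefPen.Form n k d := fun c =>
    sub (shearA fun i => -c (Sum.inl i)) (∑ l, c (Sum.inr l) • bL l : LinearMap.ker J).1
  have hX : ∀ c j, eval c (ψ (MvPolynomial.X j)) = bs.equivFun (Φ c) j := by
    intro c j
    simp only [ψ, aeval_X, map_sum, map_mul, eval_X, Φ, AddSubmonoidClass.coe_finset_sum, SetLike.val_smul,
      map_smul, Finset.sum_apply, Pi.smul_apply, smul_eq_mul, hq]
    refine Finset.sum_congr rfl fun l _ => ?_
    rw [map_shearA]
    simp [u]
  have hψ : ∀ c p, eval c (ψ p) = eval (bs.equivFun (Φ c)) p := by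
    intro c p
    rw [← funext (hX c), ← aeval_eq_eval, ← aeval_eq_eval, ← AlgHom.comp_apply]
    congr 1
    exact MvPolynomial.algHom_ext fun j => by simp [aeval_eq_eval]
  -- the points of the image
  let pt : (Fin n → k) → Fin (n + 1) → k := fun w => Fin.cases 1 w
  have hpt0 : ∀ w, pt w ≠ 0 := fun w h => one_ne_zero (congrFun h 0)
  have hΦ : ∀ c, eval (pt fun i => c (Sum.inl i)) (Φ c).1 = 0 ∧
      ∀ i, eval (pt fun i => c (Sum.inl i)) (pderiv i (Φ c).1) = 0 := by
    intro c
    obtain ⟨h0, hi⟩ := (hJ _).1 (∑ l, c (Sum.inr l) • bL l : LinearMap.ker J).2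
    refine sing_zero_sub _ _ (fun i => ?_) h0 hi
    rw [shearA_apply]
    induction i using Fin.cases with
    | zero => simp [pt, e₀]
    | succ j => simp [pt, e₀]
  set P := van bs {G : LefPen.Form n k d | Sing G}
  have hmem : ∀ p, p ∈ P ↔ ∀ G, Sing G → eval (bs.equivFun G) p = 0 := fun p => Iff.rfl
  have hker : RingHom.ker ψ.toRingHom = P := by
    refine le_antisymm (fun p hp => (hmem p).2 ?_) fun p hp => RingHom.mem_ker.2
      (MvPolynomial.funext fun c => ?_)
    swap
    · rw [map_zero]
      exact (hψ c p).trans ((hmem p).1 hp _ ⟨_, hpt0 _, hΦ c⟩)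
    have hp' : ψ p = 0 := RingHom.mem_ker.1 hp
    have hchart : ∀ (G : LefPen.Form n k d) (v : Fin (n + 1) → k), v 0 ≠ 0 → eval v G.1 = 0 →
        (∀ i, eval v (pderiv i G.1) = 0) → eval (bs.equivFun G) p = 0 := by
      intro G v hv h0 hi
      let w : Fin n → k := fun i => (v 0)⁻¹ * v i.succ
      have hw : pt w = (v 0)⁻¹ • v := funext fun i => by
        induction i using Fin.cases with
        | zero => simp [pt, inv_mul_cancel₀ hv]
        | succ j => simp [pt, w]
      have h0' : eval (pt w) G.1 = 0 := by rw [hw, eval_smul_hom (isHomogeneous_form G), h0, mul_zero]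
      have hi' : ∀ i, eval (pt w) (pderiv i G.1) = 0 := fun i => by
        rw [hw, eval_smul_hom (isHomogeneous_form G).pderiv, hi, mul_zero]
      have hmemL : sub (shearA w) G ∈ LinearMap.ker J := (hJ _).2 (sing_zero_sub _ _ (fun i => by
        rw [shearA_apply]
        induction i using Fin.cases with
        | zero => simp [pt, e₀]
        | succ j => simp [pt, e₀]) h0' hi')
      let c : Fin n ⊕ Fin M → k := Sum.elim w fun l => bL.equivFun ⟨_, hmemL⟩ l
      have hc : Φ c = G := by
        show sub (shearA fun i => -w i) (∑ l, bL.equivFun ⟨_, hmemL⟩ l • bL l : LinearMap.ker J).1 = G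
        rw [bL.sum_equivFun]
        exact sub_sub_eq_self _ _ (lin_shearA_inverse w) G
      rw [← hc, ← hψ, hp', map_zero]
    rintro G ⟨v, hv, h0, hi⟩
    by_cases hv0 : v 0 ≠ 0
    · exact hchart G v hv0 h0 hi
    push Not at hv0
    obtain ⟨a, ha⟩ := Function.ne_iff.1 hv
    have ha0 : a ≠ 0 := fun e => ha (by rw [e]; exact hv0)
    let A : Fin (n + 1) → Fin (n + 1) → MvPolynomial PUnit.{u + 1} k := fun i =>
      Pi.single i 1 - if i = 0 then Pi.single a (C (v a)⁻¹ * MvPolynomial.X PUnit.unit) else 0
    choose Q hQ using fun j => exists_coord_poly A G (bs.coord j)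
    let Gt : k → LefPen.Form n k d := fun t => sub (fun i l => eval (fun _ => t) (A i l)) G
    have hF : ∀ t, eval (fun _ => t) (aeval Q p) = eval (bs.equivFun (Gt t)) p := fun t => by
      rw [← aeval_eq_eval, ← aeval_eq_eval, ← AlgHom.comp_apply]
      congr 1
      exact MvPolynomial.algHom_ext fun j => by simp [aeval_eq_eval, hQ, Gt]
    have hne : ∀ t : k, t ≠ 0 → eval (fun _ => t) (aeval Q p) = 0 := by
      intro t ht
      rw [hF]
      have hA : ∀ i, ∑ l, eval (fun _ => t) (A i l) * (v + t • e₀) l = v i := by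
        intro i
        have hAl : ∀ l, eval (fun _ => t) (A i l) =
            (if l = i then 1 else 0) - if i = 0 then (if l = a then (v a)⁻¹ * t else 0) else 0 := by
          intro l
          simp only [A, Pi.sub_apply, map_sub, Pi.single_apply, apply_ite (eval fun _ : PUnit.{u + 1} => t),
            ite_apply, Pi.zero_apply, map_one, map_zero, map_mul, eval_C, eval_X]
        simp only [hAl, sub_mul, Finset.sum_sub_distrib, ite_mul, one_mul, zero_mul, Finset.sum_ite_eq',
          Finset.mem_univ, if_true]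
        by_cases hi : i = 0
        · subst hi
          simp [e₀, ha0, hv0, mul_assoc, mul_comm t, inv_mul_cancel_left₀ (show v a ≠ 0 from ha)]
        · simp [e₀, hi]
      refine hchart _ (v + t • e₀) (by simp [e₀, hv0, ht]) ?_ ?_
      · exact (sing_zero_sub _ _ hA h0 hi).1
      · exact (sing_zero_sub _ _ hA h0 hi).2
    have hzero : aeval Q p * MvPolynomial.X PUnit.unit = 0 := MvPolynomial.funext fun c => by
      rw [map_mul, map_zero, eval_X, show c = fun _ => c PUnit.unit from funext fun _ => rfl]
      by_cases hc : c PUnit.unit = 0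
      · rw [hc, mul_zero]
      · rw [hne _ hc, zero_mul]
    have h00 := hF 0
    rw [(mul_eq_zero.1 hzero).resolve_right (X_ne_zero _), map_zero] at h00
    rw [h00]
    refine congrArg (fun H => eval (bs.equivFun H) p) ?_
    refine (Subtype.ext ?_ : G = Gt 0)
    show G.1 = (sub (fun i l => eval (fun _ => (0 : k)) (A i l)) G).1
    rw [sub_val, show lin (fun i l => eval (fun _ : PUnit.{u + 1} => (0 : k)) (A i l)) = MvPolynomial.X from
      funext fun i => ?_, aeval_X_left, AlgHom.id_apply]
    have hz : ∀ l, eval (fun _ : PUnit.{u + 1} => (0 : k)) (A i l) = if l = i then 1 else 0 := fun l => by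
      simp only [A, Pi.sub_apply, map_sub, Pi.single_apply, apply_ite (eval fun _ : PUnit.{u + 1} => (0 : k)),
        ite_apply, Pi.zero_apply, map_one, map_zero, map_mul, eval_C, eval_X, mul_zero, ite_self, sub_zero]
    simp only [lin, hz]
    simp [apply_ite C, ite_mul]
  haveI : P.IsPrime := hker ▸ RingHom.ker_isPrime _
  obtain ⟨C₀, hC0, hCi, hCline⟩ := exists_cone (k := k) hn hd
  let c₀ : Fin n ⊕ Fin M → k := Sum.elim 0 fun l => bL.equivFun ⟨C₀, (hJ C₀).2 ⟨hC0, hCi⟩⟩ l
  have hfib : ∀ c, (∀ j, eval c (ψ (MvPolynomial.X j)) = eval c₀ (ψ (MvPolynomial.X j))) → c = c₀ := by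
    intro c hc
    have hsub0 : ∀ G : LefPen.Form n k d, sub (shearA (0 : Fin n → k)) G = G := fun G => by
      refine Subtype.ext ?_
      rw [sub_val, show lin (shearA (0 : Fin n → k)) = MvPolynomial.X from funext fun i => by
        induction i using Fin.cases <;> simp [lin, shearA, Pi.single_apply, apply_ite C, ite_mul],
        aeval_X_left, AlgHom.id_apply]
    have h0 : Φ c₀ = C₀ := by
      show sub (shearA fun i => -(0 : Fin n → k) i) (∑ l, bL.equivFun _ l • bL l : LinearMap.ker J).1 = C₀
      rw [bL.sum_equivFun, show (fun i => -(0 : Fin n → k) i) = 0 from funext fun i => neg_zero, hsub0]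
    have hΦc : Φ c = C₀ := by
      rw [← h0]
      exact bs.equivFun.injective (funext fun j => by rw [← hX, ← hX, hc])
    obtain ⟨h1, h2⟩ := hΦ c
    rw [hΦc] at h1 h2
    have hw : (fun i => c (Sum.inl i)) = 0 := funext fun i => hCline _ h1 h2 i.succ (Fin.succ_ne_zero i)
    have hL : (∑ l, c (Sum.inr l) • bL l : LinearMap.ker J) = ∑ l, c₀ (Sum.inr l) • bL l := by
      refine Subtype.ext ?_
      have e := hΦc.trans h0.symm
      simp only [Φ] at e
      rwa [show (fun i => -c (Sum.inl i)) = 0 from funext fun i => by rw [congrFun hw i, Pi.zero_apply, neg_zero],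
        show (fun i => -c₀ (Sum.inl i)) = 0 from funext fun i => neg_zero, hsub0, hsub0] at e
    funext x
    cases x with
    | inl i => exact congrFun hw i
    | inr l =>
      exact congrFun (Fintype.linearIndependent_iffₛ.1 bL.linearIndependent (fun l => c (Sum.inr l))
        (fun l => c₀ (Sum.inr l)) hL |> funext) l
  have hnon : ∀ G, ¬ Sing G → ∃ Q ∈ P, eval (bs.equivFun G) Q ≠ 0 := by
    intro G hG
    obtain ⟨f, hf, hf0, hf'⟩ := exists_open_nonsing G hG
    obtain ⟨Q, hQ⟩ := exists_poly bs hf
    exact ⟨Q, (hmem Q).2 fun H hH => by rw [← hQ]; exact by_contra fun h => hf' H h hH, by rw [← hQ]; exact hf0⟩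
  have hsmooth : ∃ G : LefPen.Form n k d, ¬ Sing G := by
    obtain ⟨f, -, ⟨⟨G, hG⟩, hfG⟩, hf⟩ := Groth.L14.Fano.Sm.generic_smooth (k := k) (n := n) hd
      (⊥ : Submodule k (Fin (n + 1) → k)) (by rw [finrank_bot]; omega) ⊤
      (fun G => iff_of_true trivial fun u hu => by
        rw [(Submodule.mem_bot k).1 hu, ← zero_smul k (0 : Fin (n + 1) → k), eval_smul_hom (isHomogeneous_form G),
          zero_pow (by omega), zero_mul])
    refine ⟨G, fun ⟨v, hv, h0, hi⟩ => ?_⟩
    obtain ⟨i, hi'⟩ := hf _ hfG v hv h0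
    exact hi' (hi i)
  have hne : P ≠ ⊥ := by
    obtain ⟨G, hG⟩ := hsmooth
    obtain ⟨Q, hQ, hQ0⟩ := hnon G hG
    exact fun h => hQ0 (by rw [show Q = 0 by rwa [h, Ideal.mem_bot] at hQ, map_zero])
  have hht : P.height ≤ 1 := by
    have h := height_ker_add_le ψ c₀ hfib
    rw [hker, Nat.card_sum, Nat.card_fin, Nat.card_fin] at h
    obtain ⟨a, ha⟩ := WithTop.ne_top_iff_exists.1 (ne_top_of_le_ne_top (ENat.natCast_ne_top N) (le_self_add.trans h))
    rw [← ha] at h ⊢
    have h' : a + (n + M) ≤ N := ENat.natCast_le_natCast.1 (by push_cast; exact h)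
    exact ENat.natCast_le_natCast.2 (show a ≤ 1 by omega)
  obtain ⟨p, hp, hPp⟩ := exists_prime_eq_span P hne hht
  -- polynomials and functions
  let S := Algebra.adjoin k (Set.range (fun l : Module.Dual k (LefPen.Form n k d) => (l : LefPen.Form n k d → k)))
  let θ₀ : MvPolynomial (Fin N) k →ₐ[k] (LefPen.Form n k d → k) :=
    aeval fun j => ((bs.coord j : Module.Dual k (LefPen.Form n k d)) : LefPen.Form n k d → k)
  have hθ₀ : ∀ Q G, θ₀ Q G = eval (bs.equivFun G) Q := fun Q G => by
    show Pi.evalAlgHom k (fun _ : LefPen.Form n k d => k) G (θ₀ Q) = _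
    rw [← AlgHom.comp_apply, ← aeval_eq_eval]
    congr 1
    exact MvPolynomial.algHom_ext fun j => by simp [θ₀]
  have hθS : ∀ Q, θ₀ Q ∈ S := fun Q => by
    rw [show θ₀ Q = fun G => eval (fun l => bs.coord l G) Q from funext fun G => hθ₀ Q G]
    exact isPolyFun_eval_lin (fun l => bs.coord l) Q
  let θ : MvPolynomial (Fin N) k →ₐ[k] S := θ₀.codRestrict S hθS
  have hθ : Function.Bijective θ := by
    refine ⟨fun a b hab => MvPolynomial.funext fun c => ?_, fun g => ?_⟩
    · have h := congrFun (congrArg Subtype.val hab) (bs.equivFun.symm c)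
      change θ₀ a _ = θ₀ b _ at h
      rwa [hθ₀, hθ₀, LinearEquiv.apply_symm_apply] at h
    · obtain ⟨Q, hQ⟩ := exists_poly bs g.2
      exact ⟨Q, Subtype.ext (funext fun G => (hθ₀ Q G).trans (hQ G).symm)⟩
  refine ⟨θ p, ?_, fun G => ?_⟩
  · exact (MulEquiv.irreducible_iff (AlgEquiv.ofBijective θ hθ).toRingEquiv.toMulEquiv).2 hp.irreducible
  show Sing G ↔ θ₀ p G = 0
  rw [hθ₀]
  refine ⟨fun h => (hmem p).1 (hPp ▸ Ideal.mem_span_singleton_self p) G h, fun h => by_contra fun hG => ?_⟩
  obtain ⟨Q, hQ, hQ0⟩ := hnon G hG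
  rw [hPp, Ideal.mem_span_singleton'] at hQ
  obtain ⟨r, rfl⟩ := hQ
  exact hQ0 (by rw [map_mul, h, mul_zero])

end Groth.L05.Discrim
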