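import Groth.Agent.L05.Discrim.Sing
import Groth.Agent.L05.DualVar.Minors
import Groth.Agent.L28.SingBound.Basic
import Mathlib.Algebra.Squarefree.Basic
import Mathlib.LinearAlgebra.Matrix.ToLinearEquiv

/-! Squarefree forms. -/

set_option autoImplicit false
set_option linter.style.haveILetI false
set_option maxHeartbeats 1000000

universe u

open MvPolynomial

noncomputable section

namespace Groth.L05.Discrim

open Groth.L14.Fano (Mon)

variable {k : Type u} [Field k] [IsAlgClosed k] {n d : ℕ}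

/-- A nonconstant polynomial in at least two variables has a nonzero zero. -/
theorem exists_zero (hn : 1 ≤ n) {g : MvPolynomial (Fin (n + 1)) k} (hg : ¬ IsUnit g) :
    ∃ v : Fin (n + 1) → k, v ≠ 0 ∧ eval v g = 0 := by
  by_contra hall
  push Not at hall
  have hdvd : ∀ i, ∃ a, g ∣ MvPolynomial.X i ^ a := by
    intro i
    have h : MvPolynomial.X i ∈ (Ideal.span {g}).radical := by
      rw [← vanishingIdeal_zeroLocus_eq_radical (k := k) (K := k) (Ideal.span {g}), mem_vanishingIdeal_iff]
      intro v hv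
      have := mem_zeroLocus_iff.1 hv g (Ideal.mem_span_singleton_self g)
      rw [aeval_eq_eval] at this
      have hv0 : v = 0 := by_contra fun h => hall v h this
      rw [aeval_X, hv0]
      rfl
    obtain ⟨a, ha⟩ := h
    exact ⟨a, Ideal.mem_span_singleton.1 ha⟩
  obtain ⟨a, ha⟩ := hdvd 0
  obtain ⟨b, hb⟩ := hdvd ⟨1, by omega⟩
  have hp : Prime (MvPolynomial.X (0 : Fin (n + 1)) : MvPolynomial (Fin (n + 1)) k) := (MvPolynomial.X_prime (i := 0))
  obtain ⟨j, -, hj⟩ := (dvd_prime_pow hp a).1 ha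
  cases j with
  | zero => exact hg (by simpa using hj.isUnit_iff.2 (by simp))
  | succ j =>
    have h : (MvPolynomial.X (0 : Fin (n + 1)) : MvPolynomial (Fin (n + 1)) k) ∣ MvPolynomial.X ⟨1, by omega⟩ :=
      hp.dvd_of_dvd_pow ((dvd_pow_self _ j.succ_ne_zero).trans (hj.symm.dvd.trans hb))
    obtain ⟨q, hq⟩ := h
    have h1 := congrArg (eval (Pi.single ⟨1, by omega⟩ 1 : Fin (n + 1) → k)) hq
    rw [map_mul, eval_X, eval_X, Pi.single_eq_same, Pi.single_eq_of_ne (by simp [Fin.ext_iff]), zero_mul] at h1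
    exact one_ne_zero h1

omit [IsAlgClosed k] in
/-- A non-squarefree form is a square times a form. -/
theorem exists_sq_mul (F : LefPen.Form n k d) (h0 : F ≠ 0) (h : ¬ Squarefree F.1) :
    ∃ e e', 1 ≤ e ∧ 2 * e + e' = d ∧ ∃ (g : LefPen.Form n k e) (h : LefPen.Form n k e'),
      g ≠ 0 ∧ F.1 = g.1 ^ 2 * h.1 := by
  rw [Squarefree] at h
  push Not at h
  obtain ⟨x, ⟨y, hy⟩, hx⟩ := h
  have hF0 : F.1 ≠ 0 := fun hh => h0 (Subtype.ext hh)
  obtain ⟨a, b, hab, ha, hb⟩ := Groth.L28.SingBound.exists_isHomogeneous_of_mul (g := x * x) (h := y)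
    (hy ▸ isHomogeneous_form F) (hy ▸ hF0)
  have hxx : x * x ≠ 0 := left_ne_zero_of_mul (hy ▸ hF0)
  obtain ⟨a₁, a₂, ha12, hx₁, hx₂⟩ := Groth.L28.SingBound.exists_isHomogeneous_of_mul ha hxx
  have hx0 : x ≠ 0 := left_ne_zero_of_mul hxx
  have he : a₁ = a₂ := hx₁.inj_right hx₂ hx0
  refine ⟨a₁, b, ?_, by omega, ⟨x, (mem_homogeneousSubmodule _ _).2 hx₁⟩, ⟨y, (mem_homogeneousSubmodule _ _).2 hb⟩,
    fun hh => hx0 (congrArg Subtype.val hh), by rw [sq]; exact hy⟩
  rw [Nat.one_le_iff_ne_zero]
  rintro rfl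
  rw [totalDegree_eq_zero_iff_eq_C.1 (Nat.le_zero.1 hx₁.totalDegree_le)] at hx hx0
  exact hx ((IsUnit.mk0 _ (fun hc => hx0 (by rw [hc, map_zero]))).map _)

/-- Not being a square times a form is open. -/
theorem exists_open_not_sq_mul (F₀ : LefPen.Form n k d) (hF₀ : Squarefree F₀.1) {e e' : ℕ} (he : 1 ≤ e)
    (hee : 2 * e + e' = d) :
    ∃ f : LefPen.Form n k d → k, LefPen.IsPolyFun k f ∧ f F₀ ≠ 0 ∧ ∀ F, f F ≠ 0 →
      ∀ (g : LefPen.Form n k e) (h : LefPen.Form n k e'), g ≠ 0 → F.1 ≠ g.1 ^ 2 * h.1 := by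
  classical
  obtain ⟨r, hr⟩ : ∃ r, Fintype.card (Mon (n + 1) e) = r + 1 := ⟨Fintype.card (Mon (n + 1) e) - 1,
    (Nat.sub_add_cancel
      (Fintype.card_pos_iff.2 ⟨(⟨Finsupp.single 0 e, Finsupp.degree_single 0 e⟩ : Mon (n + 1) e)⟩)).symm⟩
  let eq : Fin (r + 1) ≃ Mon (n + 1) e := (Fintype.equivFinOfCardEq hr).symm
  let gp : MvPolynomial (Fin (n + 1)) (MvPolynomial (Fin (r + 1)) k) :=
    ∑ i, monomial (eq i).1 (MvPolynomial.X i)
  let ent : Mon (n + 1) d → Mon (n + 1) e' → MvPolynomial (Fin (r + 1)) k := fun μ l =>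
    coeff μ.1 (gp * gp * monomial l.1 1)
  let Mat : (Option (Mon (n + 1) e') → Mon (n + 1) d) → LefPen.Form n k d →
      Matrix (Option (Mon (n + 1) e')) (Option (Mon (n + 1) e')) (MvPolynomial (Fin (r + 1)) k) := fun s F =>
    Matrix.of fun a b => b.elim (C (coeff (s a).1 F.1)) fun l => ent (s a) l
  have hent : ∀ μ l, (ent μ l).IsHomogeneous 2 := by
    intro μ l
    simp only [ent, gp, Finset.sum_mul, Finset.mul_sum, monomial_mul, coeff_sum, coeff_monomial]
    refine IsHomogeneous.sum _ _ _ fun i _ => IsHomogeneous.sum _ _ _ fun j _ => ?_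
    split_ifs
    · simpa using ((isHomogeneous_X k j).mul (isHomogeneous_X k i))
    · exact isHomogeneous_zero _ _ _
  let δ : (Option (Mon (n + 1) e') → Mon (n + 1) d) → ℕ := fun _ => 2 * Fintype.card (Mon (n + 1) e')
  have hhom : ∀ s F, ((Mat s F).det).IsHomogeneous (δ s) := by
    intro s F
    rw [Matrix.det_apply']
    refine IsHomogeneous.sum _ _ _ fun p _ => ?_
    rw [show ((Equiv.Perm.sign p : ℤ) : MvPolynomial (Fin (r + 1)) k) = C ((Equiv.Perm.sign p : ℤ) : k) by simp]
    refine IsHomogeneous.C_mul ?_ _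
    have h := IsHomogeneous.prod Finset.univ (fun b => Mat s F (p b) b)
      (fun b : Option (Mon (n + 1) e') => b.elim 0 fun _ => 2) (fun b _ => by
        cases b with
        | none => exact isHomogeneous_C _ _
        | some l => exact hent _ l)
    rw [Fintype.sum_option] at h
    simp only [Option.elim, Finset.sum_const, Finset.card_univ, smul_eq_mul, zero_add] at h
    rw [Nat.mul_comm] at h
    exact h
  have hpoly : ∀ s μ, LefPen.IsPolyFun k fun F => coeff μ (Mat s F).det := by
    intro s μ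
    have e1 : (fun F => coeff μ (Mat s F).det) = fun F => ∑ p : Equiv.Perm (Option (Mon (n + 1) e')),
        coeff (s (p none)).1 F.1 *
          (((Equiv.Perm.sign p : ℤ) : k) * coeff μ (∏ l : Mon (n + 1) e', ent (s (p (some l))) l)) := by
      funext F
      rw [Matrix.det_apply', coeff_sum]
      refine Finset.sum_congr rfl fun p _ => ?_
      rw [show ((Equiv.Perm.sign p : ℤ) : MvPolynomial (Fin (r + 1)) k) = C ((Equiv.Perm.sign p : ℤ) : k) by simp,
        Fintype.prod_option, show Mat s F (p none) none = C (coeff (s (p none)).1 F.1) from rfl, coeff_C_mul,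
        coeff_C_mul]
      show _ * (_ * coeff μ (∏ l : Mon (n + 1) e', ent (s (p (some l))) l)) = _
      ring
    rw [e1]
    refine Groth.L05.DualVar.isPolyFun_sum _ _ fun p _ => ?_
    exact Groth.L05.DualVar.isPolyFun_linear
      ((((Equiv.Perm.sign p : ℤ) : k) * coeff μ (∏ l : Mon (n + 1) e', ent (s (p (some l))) l)) •
        (lcoeff k (s (p none)).1).comp (Submodule.subtype _)) |> fun h => by
      convert h using 1
      funext F
      simp [mul_comm]
  let gv : (Fin (r + 1) → k) → MvPolynomial (Fin (n + 1)) k := fun v => ∑ i, monomial (eq i).1 (v i)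
  have hgv : ∀ v, MvPolynomial.map (eval v) gp = gv v := fun v => by simp [gp, gv, map_sum, map_monomial]
  let vec : (Fin (r + 1) → k) → LefPen.Form n k d → Option (Mon (n + 1) e') → Mon (n + 1) d → k :=
    fun v F b μ => b.elim (coeff μ.1 F.1) fun l => coeff μ.1 (gv v * gv v * monomial l.1 1)
  have hevM : ∀ v F s, eval v (Mat s F).det = (Matrix.of fun a b => vec v F b (s a)).det := by
    intro v F s
    rw [RingHom.map_det]
    congr 1
    ext a b
    cases b with
    | none => simp [Mat, vec]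
    | some l =>
      show eval v (ent (s a) l) = _
      simp only [ent, ← coeff_map, map_mul, hgv, map_monomial, map_one]
      rfl
  have hgv0 : ∀ v, gv v = 0 → v = 0 := by
    intro v hv
    funext i
    have h := congrArg (coeff (eq i).1) hv
    simp only [gv, coeff_sum, coeff_monomial, coeff_zero] at h
    rw [Finset.sum_eq_single i (fun j _ hj => if_neg fun hh => hj (eq.injective (Subtype.ext hh))) (by simp),
      if_pos rfl] at h
    exact h
  have h0 : ∀ v : Fin (r + 1) → k, (∀ s, eval v (Mat s F₀).det = 0) → v = 0 := by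
    intro v hv
    by_contra hv0
    have hg0 : gv v ≠ 0 := fun h => hv0 (hgv0 v h)
    have hgh : (gv v).IsHomogeneous e :=
      IsHomogeneous.sum _ _ _ fun i _ => isHomogeneous_monomial _ (eq i).2
    have hli : LinearIndependent k (vec v F₀) := by
      rw [Fintype.linearIndependent_iff]
      intro c hc
      set h := ∑ l : Mon (n + 1) e', monomial l.1 (c (some l))
      have hh : h.IsHomogeneous e' := IsHomogeneous.sum _ _ _ fun l _ => isHomogeneous_monomial _ l.2
      have hz : C (c none) * F₀.1 + gv v * gv v * h = 0 := by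
        have hhom' : (C (c none) * F₀.1 + gv v * gv v * h).IsHomogeneous d := by
          refine ((isHomogeneous_form F₀).C_mul _).add ?_
          have h2 := (hgh.mul hgh).mul hh
          rwa [show e + e + e' = d by omega] at h2
        ext μ
        by_cases hμ : μ.degree = d
        · have := congrFun hc ⟨μ, hμ⟩
          simp only [Finset.sum_apply, Pi.smul_apply, smul_eq_mul, Pi.zero_apply, Fintype.sum_option] at this
          rw [coeff_zero, coeff_add, coeff_C_mul, Finset.mul_sum, coeff_sum]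
          refine Eq.trans ?_ this
          refine congrArg₂ _ rfl (Finset.sum_congr rfl fun l _ => ?_)
          show _ = c (some l) * coeff μ (gv v * gv v * monomial l.1 1)
          rw [← coeff_C_mul, mul_left_comm, C_mul_monomial, mul_one]
        · rw [coeff_zero, hhom'.coeff_eq_zero hμ]
      have hc0 : c none = 0 := by
        by_contra hne
        have hdvd : gv v * gv v ∣ F₀.1 := ⟨C (-(c none)⁻¹) * h, by
          have h1 : C ((c none)⁻¹) * (C (c none) * F₀.1 + gv v * gv v * h) = 0 := by rw [hz, mul_zero]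
          rw [mul_add, ← mul_assoc, ← map_mul, inv_mul_cancel₀ hne, C_1, one_mul] at h1
          rw [map_neg]
          linear_combination h1⟩
        have hu := hF₀ _ hdvd
        rw [MvPolynomial.isUnit_iff_totalDegree_of_isReduced, hgh.totalDegree hg0] at hu
        omega
      rw [hc0, map_zero, zero_mul, zero_add, mul_eq_zero, mul_self_eq_zero, or_iff_right hg0] at hz
      intro b
      cases b with
      | none => exact hc0
      | some l =>
        have hl := congrArg (coeff l.1) hz
        simp only [h, coeff_sum, coeff_monomial, coeff_zero] at hl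
        rwa [Finset.sum_eq_single l (fun j _ hj => if_neg fun hh => hj (Subtype.ext hh)) (by simp), if_pos rfl] at hl
    let q := Fintype.equivFin (Option (Mon (n + 1) e'))
    obtain ⟨col, hcol⟩ := Groth.L05.DualVar.exists_minor (vec v F₀ ∘ q.symm) (hli.comp _ q.symm.injective)
    refine hcol ?_
    have h1 := hv (col ∘ q)
    rw [hevM, ← Matrix.det_transpose, ← Matrix.det_submatrix_equiv_self q.symm] at h1
    rw [← h1]
    congr 1
    ext a b
    simp
  obtain ⟨f, hf, hf0, hf'⟩ := Groth.L05.DualVar.isOpen_noCommonZero δ (fun s F => (Mat s F).det) hhom hpoly F₀ h0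
  refine ⟨f, hf, hf0, fun F hF g h hg hFgh => ?_⟩
  let v : Fin (r + 1) → k := fun i => coeff (eq i).1 g.1
  have hgv' : gv v = g.1 := by
    show ∑ i, monomial (eq i).1 (coeff (eq i).1 g.1) = _
    rw [eq.sum_comp (fun μ : Mon (n + 1) e => monomial μ.1 (coeff μ.1 g.1))]
    exact (Groth.L05.HypBertini.form_eq_sum g).symm
  refine hg (Subtype.ext ?_)
  rw [← hgv', hf' F hF v fun s => ?_]
  · simp [gv]
  rw [hevM]
  refine Matrix.exists_mulVec_eq_zero_iff.1 ⟨fun b => b.elim 1 fun l => -coeff l.1 h.1,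
    fun hh => one_ne_zero (congrFun hh none), funext fun a => ?_⟩
  simp only [Matrix.mulVec, dotProduct, Matrix.of_apply, Fintype.sum_option, vec, Option.elim, mul_one,
    Pi.zero_apply, hgv']
  rw [hFgh, ← sq]
  conv_lhs =>
    arg 1
    rw [Groth.L05.HypBertini.form_eq_sum h, Finset.mul_sum, coeff_sum]
  rw [← Finset.sum_add_distrib]
  refine Finset.sum_eq_zero fun l _ => ?_
  rw [show monomial l.1 (coeff l.1 h.1) = C (coeff l.1 h.1) * monomial l.1 1 by rw [C_mul_monomial, mul_one],
    mul_left_comm, coeff_C_mul]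
  ring

/-- Squarefree forms form a nonempty open set. -/
theorem isZOpen_squarefree (hn : 1 ≤ n) (hd : 1 ≤ d) :
    LefPen.IsZOpen k {F : LefPen.Form n k d | Squarefree F.1} ∧
      ({F : LefPen.Form n k d | Squarefree F.1}).Nonempty := by
  classical
  constructor
  · intro F₀ hF₀
    choose f hf hf0 hf' using fun e : {e : Fin (d + 1) // 1 ≤ e.1 ∧ 2 * e.1 ≤ d} =>
      exists_open_not_sq_mul F₀ hF₀ e.2.1 (e' := d - 2 * e.1.1) (by omega)
    obtain ⟨μ₀, hμ₀⟩ : ∃ μ, coeff μ F₀.1 ≠ 0 := by
      by_contra hall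
      push Not at hall
      exact hF₀.ne_zero (MvPolynomial.ext _ _ fun μ => (hall μ).trans (coeff_zero μ).symm)
    refine ⟨(fun F : LefPen.Form n k d => coeff μ₀ F.1) * ∏ e, f e, ?_, ?_, fun F hF => ?_⟩
    · exact mul_mem (Groth.L05.DualVar.isPolyFun_linear ((lcoeff k μ₀).comp (Submodule.subtype _)))
        (Subalgebra.prod_mem _ fun e _ => hf e)
    · rw [Pi.mul_apply, Finset.prod_apply]
      exact mul_ne_zero hμ₀ (Finset.prod_ne_zero_iff.2 fun e _ => hf0 e)
    · rw [Pi.mul_apply, Finset.prod_apply, mul_ne_zero_iff, Finset.prod_ne_zero_iff] at hF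
      by_contra hns
      obtain ⟨e, e', he, hee, g, h, hg, hgh⟩ := exists_sq_mul F (fun hh => hF.1 (by rw [hh]; simp)) hns
      obtain rfl : e' = d - 2 * e := by omega
      exact hf' ⟨⟨e, by omega⟩, he, by simp; omega⟩ F (hF.2 _ (Finset.mem_univ _)) g h hg hgh
  · by_cases hd1 : d = 1
    · subst hd1
      exact ⟨⟨MvPolynomial.X 0, (mem_homogeneousSubmodule _ _).2 (isHomogeneous_X k 0)⟩,
        ((MvPolynomial.X_prime (i := 0))).squarefree⟩
    obtain ⟨f, -, ⟨⟨G, hG⟩, hfG⟩, hf⟩ := Groth.L14.Fano.Sm.generic_smooth (k := k) (n := n) (show 2 ≤ d by omega)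
      (⊥ : Submodule k (Fin (n + 1) → k)) (by rw [finrank_bot]; omega) ⊤
      (fun G => iff_of_true trivial fun u hu => by
        rw [(Submodule.mem_bot k).1 hu, ← zero_smul k (0 : Fin (n + 1) → k), eval_smul_hom (isHomogeneous_form G),
          zero_pow (by omega), zero_mul])
    refine ⟨G, ?_⟩
    show Squarefree G.1
    intro x hx
    obtain ⟨y, hy⟩ := hx
    by_contra hu
    obtain ⟨v, hv0, hv⟩ := exists_zero hn hu
    obtain ⟨i, hi⟩ := hf _ hfG v hv0 (by show eval v G.1 = 0; simp [hy, hv])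
    exact hi (by show eval v (pderiv i G.1) = 0; simp [hy, hv, pderiv_mul])

end Groth.L05.Discrim
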